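import Mathlib
import Cfsg.Agent.Lib.Helper31.CTI.Defs

/-!
# Project CTI (helper31, S4064): modules [SUB] and [EQUIV] (helper71)
-/

set_option autoImplicit false

namespace Cfsg.Agent.Lib.Helper31.CTI

open Cfsg

variable {G : Type*} [Group G]

theorem mem_centralizer_subtype_iff_h71 (H : Subgroup G) (x n : H) :
    n ∈ Subgroup.centralizer ({x} : Set H) ↔ (n : G) ∈ Subgroup.centralizer ({(x : G)} : Set G) := by
  rw [Subgroup.mem_centralizer_singleton_iff, Subgroup.mem_centralizer_singleton_iff, Subtype.ext_iff,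
    Subgroup.coe_mul, Subgroup.coe_mul]

/-- [SUB] CTI passes to subgroups. -/
theorem cti_subgroup (hG : IsCTI G) (H : Subgroup G) : IsCTI H := by
  intro x h hh y hy hyc
  have hy' : (y : G) ∈ (Subgroup.centralizer ({(x : G)} : Set G) : Set G) :=
    (mem_centralizer_subtype_iff_h71 H x y).mp hy
  have hyc' : (h : G) * (y : G) * (h : G)⁻¹ ∈ (Subgroup.centralizer ({(x : G)} : Set G) : Set G) := by
    have := (mem_centralizer_subtype_iff_h71 H x (h * y * h⁻¹)).mp hyc
    simpa using this
  have hh' : (h : G) ∉ Subgroup.normalizer ((Subgroup.centralizer ({(x : G)} : Set G) : Subgroup G) : Set G) := by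
    intro hcon
    apply hh
    rw [Subgroup.mem_normalizer_iff] at hcon ⊢
    intro n
    have h1 := hcon (n : G)
    have h2 : ((h * n * h⁻¹ : H) : G) = (h : G) * (n : G) * (h : G)⁻¹ := by simp
    change n ∈ Subgroup.centralizer ({x} : Set H) ↔ h * n * h⁻¹ ∈ Subgroup.centralizer ({x} : Set H)
    rw [mem_centralizer_subtype_iff_h71, mem_centralizer_subtype_iff_h71, h2]
    exact h1
  have := hG (x : G) (h : G) hh' (y : G) hy' hyc'
  exact Subtype.ext this

theorem mem_centralizer_equiv_iff_h71 {H : Type*} [Group H] (e : G ≃* H) (x n : H) :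
    n ∈ Subgroup.centralizer ({x} : Set H) ↔ e.symm n ∈ Subgroup.centralizer ({e.symm x} : Set G) := by
  rw [Subgroup.mem_centralizer_singleton_iff, Subgroup.mem_centralizer_singleton_iff, ← map_mul, ← map_mul]
  exact e.symm.injective.eq_iff.symm

/-- [EQUIV] CTI is invariant under isomorphism. -/
theorem cti_of_mulEquiv {H : Type*} [Group H] (e : G ≃* H) (hG : IsCTI G) : IsCTI H := by
  intro x h hh y hy hyc
  have hy' : e.symm y ∈ (Subgroup.centralizer ({e.symm x} : Set G) : Set G) :=
    (mem_centralizer_equiv_iff_h71 e x y).mp hy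
  have hyc' : e.symm h * e.symm y * (e.symm h)⁻¹ ∈ (Subgroup.centralizer ({e.symm x} : Set G) : Set G) := by
    have := (mem_centralizer_equiv_iff_h71 e x (h * y * h⁻¹)).mp hyc
    simpa using this
  have hh' : e.symm h ∉ Subgroup.normalizer ((Subgroup.centralizer ({e.symm x} : Set G) : Subgroup G) : Set G) := by
    intro hcon
    apply hh
    rw [Subgroup.mem_normalizer_iff] at hcon ⊢
    intro n
    have h1 := hcon (e.symm n)
    have h2 : e.symm (h * n * h⁻¹) = e.symm h * e.symm n * (e.symm h)⁻¹ := by simp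
    change n ∈ Subgroup.centralizer ({x} : Set H) ↔ h * n * h⁻¹ ∈ Subgroup.centralizer ({x} : Set H)
    rw [mem_centralizer_equiv_iff_h71 e, mem_centralizer_equiv_iff_h71 e, h2]
    exact h1
  have := hG (e.symm x) (e.symm h) hh' (e.symm y) hy' hyc'
  have h3 : e.symm y = e.symm 1 := by rw [this, map_one]
  exact e.symm.injective h3

end Cfsg.Agent.Lib.Helper31.CTI
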