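import Mathlib
import Cfsg.Agent.Lib.Helper31.CTI.Defs
import Cfsg.Agent.Lib.Helper71.CTI.Sub

/-!
# Project CTI (helper31, S4064): modules [CENTER] and [CN] (helper71)
-/

set_option autoImplicit false

namespace Cfsg.Agent.Lib.Helper31.CTI

open Cfsg

variable {G : Type*} [Group G]

/-- the subgroup generated by a set of pairwise commuting `p`-elements is a `p`-group. -/
theorem isPGroup_closure_of_comm_h71 (p : ℕ) (S : Set G) (hcomm : ∀ a ∈ S, ∀ b ∈ S, a * b = b * a)
    (hp : ∀ a ∈ S, ∃ k : ℕ, a ^ p ^ k = 1) : IsPGroup p (Subgroup.closure S) := by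
  -- elements of the closure commute with the generators
  have h1 : ∀ y ∈ Subgroup.closure S, ∀ s ∈ S, s * y = y * s := by
    intro y hy
    induction hy using Subgroup.closure_induction with
    | mem x hx => intro s hs; exact hcomm s hs x hx
    | one => intro s _; simp
    | mul x y _ _ ihx ihy =>
      intro s hs
      rw [← mul_assoc, ihx s hs, mul_assoc, ihy s hs, mul_assoc]
    | inv x _ ihx =>
      intro s hs
      have := ihx s hs
      calc s * x⁻¹ = x⁻¹ * (x * s) * x⁻¹ := by group
        _ = x⁻¹ * (s * x) * x⁻¹ := by rw [this]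
        _ = x⁻¹ * s := by group
  -- elements of the closure commute with each other
  have h2 : ∀ y ∈ Subgroup.closure S, ∀ w ∈ Subgroup.closure S, w * y = y * w := by
    intro y hy
    induction hy using Subgroup.closure_induction with
    | mem x hx => intro w hw; exact (h1 w hw x hx).symm
    | one => intro w _; simp
    | mul x y _ _ ihx ihy =>
      intro w hw
      rw [← mul_assoc, ihx w hw, mul_assoc, ihy w hw, mul_assoc]
    | inv x _ ihx =>
      intro w hw
      have := ihx w hw
      calc w * x⁻¹ = x⁻¹ * (x * w) * x⁻¹ := by group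
        _ = x⁻¹ * (w * x) * x⁻¹ := by rw [this]
        _ = x⁻¹ * w := by group
  have h3 : ∀ y ∈ Subgroup.closure S, ∃ k : ℕ, y ^ p ^ k = 1 := by
    intro y hy
    induction hy using Subgroup.closure_induction with
    | mem x hx => exact hp x hx
    | one => exact ⟨0, by simp⟩
    | mul x y hx hy ihx ihy =>
      obtain ⟨k1, hk1⟩ := ihx
      obtain ⟨k2, hk2⟩ := ihy
      refine ⟨k1 + k2, ?_⟩
      have hc : Commute x y := (h2 x hx y hy).symm
      rw [hc.mul_pow, pow_add, pow_mul, hk1, one_pow, mul_comm (p ^ k1), pow_mul, hk2, one_pow, mul_one]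
    | inv x _ ihx =>
      obtain ⟨k, hk⟩ := ihx
      exact ⟨k, by rw [inv_pow, hk, inv_one]⟩
  intro y
  obtain ⟨k, hk⟩ := h3 y.1 y.2
  exact ⟨k, Subtype.ext (by simpa using hk)⟩

/-- [CENTER] A finite CTI group with nontrivial center is nilpotent. -/
theorem nilpotent_of_center_ne_bot [Finite G] (hG : IsCTI G) (hZ : Subgroup.center G ≠ ⊥) :
    Group.IsNilpotent G := by
  obtain ⟨⟨z, hz⟩, hz1⟩ := (Subgroup.ne_bot_iff_exists_ne_one).mp hZ
  have hz1' : z ≠ 1 := fun h => hz1 (Subtype.ext h)
  rw [Subgroup.mem_center_iff] at hz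
  -- every centralizer is normalized by every element
  have hnorm : ∀ x g : G, g ∈ Subgroup.normalizer ((Subgroup.centralizer ({x} : Set G) : Subgroup G) : Set G) := by
    intro x g
    by_contra hcon
    apply hz1'
    refine hG x g hcon z ?_ ?_
    · show z ∈ Subgroup.centralizer ({x} : Set G)
      rw [Subgroup.mem_centralizer_singleton_iff]
      exact (hz x).symm
    · show g * z * g⁻¹ ∈ Subgroup.centralizer ({x} : Set G)
      rw [Subgroup.mem_centralizer_singleton_iff]
      have h1 : g * z * g⁻¹ = z := by rw [hz g, mul_inv_cancel_right]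
      rw [h1]
      exact (hz x).symm
  -- conjugates commute
  have hcomm : ∀ x g : G, x * (g * x * g⁻¹) = (g * x * g⁻¹) * x := by
    intro x g
    have h1 := (Subgroup.mem_normalizer_iff.mp (hnorm x g)) x
    have h2 : x ∈ Subgroup.centralizer ({x} : Set G) := by
      rw [Subgroup.mem_centralizer_singleton_iff]
    have h3 : g * x * g⁻¹ ∈ Subgroup.centralizer ({x} : Set G) := h1.mp h2
    rw [Subgroup.mem_centralizer_singleton_iff] at h3
    exact h3.symm
  -- all Sylow subgroups are normal
  have hsyl : ∀ (p : ℕ) (_hp : Fact p.Prime) (P : Sylow p G), (↑P : Subgroup G).Normal := by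
    intro p _hp P
    constructor
    intro x hx g
    set S : Set G := {y | ∃ h : G, y = h * x * h⁻¹} with hS
    have hScomm : ∀ a ∈ S, ∀ b ∈ S, a * b = b * a := by
      rintro a ⟨h, rfl⟩ b ⟨k, rfl⟩
      have h1 := hcomm (h * x * h⁻¹) (k * h⁻¹)
      have h2 : k * h⁻¹ * (h * x * h⁻¹) * (k * h⁻¹)⁻¹ = k * x * k⁻¹ := by group
      rw [h2] at h1
      exact h1
    obtain ⟨k, hk⟩ := P.isPGroup' ⟨x, hx⟩
    have hk' : x ^ p ^ k = 1 := by
      have := congrArg Subtype.val hk
      simpa using this
    have hSp : ∀ a ∈ S, ∃ k : ℕ, a ^ p ^ k = 1 := by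
      rintro a ⟨h, rfl⟩
      exact ⟨k, by rw [conj_pow, hk', mul_one, mul_inv_cancel]⟩
    have hT := isPGroup_closure_of_comm_h71 p S hScomm hSp
    haveI hTn : (Subgroup.closure S).Normal := by
      constructor
      intro y hy w
      induction hy using Subgroup.closure_induction with
      | mem a ha =>
        obtain ⟨h, rfl⟩ := ha
        apply Subgroup.subset_closure
        exact ⟨w * h, by group⟩
      | one => simp
      | mul a b _ _ iha ihb =>
        have : w * (a * b) * w⁻¹ = (w * a * w⁻¹) * (w * b * w⁻¹) := by group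
        rw [this]
        exact Subgroup.mul_mem _ iha ihb
      | inv a _ iha =>
        have : w * a⁻¹ * w⁻¹ = (w * a * w⁻¹)⁻¹ := by group
        rw [this]
        exact Subgroup.inv_mem _ iha
    have hle : Subgroup.closure S ≤ P := hT.le_sylow_of_normal P
    exact hle (Subgroup.subset_closure ⟨g, rfl⟩)
  exact (Group.isNilpotent_of_finite_tfae.out 0 3 rfl rfl).mpr hsyl

/-- [CN] A finite CTI group is a CN-group. (SUB + CENTER) -/
theorem isCNGroup_of_cti [Finite G] (hG : IsCTI G) : Cfsg.IsCNGroup G := by
  intro g hg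
  apply nilpotent_of_center_ne_bot (cti_subgroup hG _)
  rw [Subgroup.ne_bot_iff_exists_ne_one]
  have hgc : g ∈ Subgroup.centralizer ({g} : Set G) := by
    rw [Subgroup.mem_centralizer_singleton_iff]
  refine ⟨⟨⟨g, hgc⟩, ?_⟩, ?_⟩
  · rw [Subgroup.mem_center_iff]
    intro y
    have := y.2
    rw [Subgroup.mem_centralizer_singleton_iff] at this
    exact Subtype.ext this
  · intro h
    apply hg
    have := congrArg (fun t : Subgroup.center (Subgroup.centralizer ({g} : Set G)) => ((t : Subgroup.centralizer ({g} : Set G)) : G)) h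
    simpa using this

end Cfsg.Agent.Lib.Helper31.CTI
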