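import Mathlib
import Cfsg.Agent.Lib.Helper31.CTI.Defs
import Cfsg.Agent.Lib.Helper71.CTI.Center
import Cfsg.Agent.Lib.Helper65.NilpBasic

/-!
# Project CTI (helper31, S4064): module [BLK-CC] (helper71)
-/

set_option autoImplicit false

namespace Cfsg.Agent.Lib.Helper31.CTI

open Cfsg

variable {G : Type*} [Group G]

/-- decomposition of an element into a `p`-part and a `p'`-part, both powers of the element. -/
theorem exists_p_decomp_h71 [Finite G] (p : ℕ) [hp : Fact p.Prime] (g : G) :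
    ∃ a b : G, a ∈ Subgroup.zpowers g ∧ b ∈ Subgroup.zpowers g ∧ g = a * b ∧ (∃ k : ℕ, a ^ p ^ k = 1) ∧
      (orderOf b).Coprime p := by
  have hn : orderOf g ≠ 0 := (orderOf_pos g).ne'
  obtain ⟨k, t, ht, hnt⟩ := Nat.exists_eq_pow_mul_and_not_dvd hn p hp.1.ne_one
  have hcop : Nat.Coprime (p ^ k) t := Nat.Coprime.pow_left k ((hp.1.coprime_iff_not_dvd).mpr ht)
  have hb := Int.gcd_eq_gcd_ab ((p ^ k : ℕ) : ℤ) (t : ℤ)
  have hg1 : Int.gcd ((p ^ k : ℕ) : ℤ) (t : ℤ) = 1 := by
    rw [Int.gcd_natCast_natCast]; exact hcop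
  set α := Int.gcdA ((p ^ k : ℕ) : ℤ) (t : ℤ)
  set β := Int.gcdB ((p ^ k : ℕ) : ℤ) (t : ℤ)
  have h1 : (1 : ℤ) = ((p ^ k : ℕ) : ℤ) * α + (t : ℤ) * β := by
    rw [← hb, hg1]; simp
  have hord : ((p ^ k : ℕ) : ℤ) * (t : ℤ) = (orderOf g : ℤ) := by rw [hnt]; push_cast; ring
  refine ⟨g ^ ((t : ℤ) * β), g ^ (((p ^ k : ℕ) : ℤ) * α), ⟨_, rfl⟩, ⟨_, rfl⟩, ?_, ⟨k, ?_⟩, ?_⟩
  · rw [← zpow_add, add_comm, ← h1, zpow_one]
  · rw [← zpow_natCast, ← zpow_mul]
    have : (t : ℤ) * β * ((p ^ k : ℕ) : ℤ) = (orderOf g : ℤ) * β := by rw [← hord]; ring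
    rw [this, zpow_mul, zpow_natCast, pow_orderOf_eq_one, one_zpow]
  · have hbt : (g ^ (((p ^ k : ℕ) : ℤ) * α)) ^ t = 1 := by
      rw [← zpow_natCast, ← zpow_mul]
      have : ((p ^ k : ℕ) : ℤ) * α * (t : ℤ) = (orderOf g : ℤ) * α := by rw [← hord]; ring
      rw [this, zpow_mul, zpow_natCast, pow_orderOf_eq_one, one_zpow]
    have hdvd : orderOf (g ^ (((p ^ k : ℕ) : ℤ) * α)) ∣ t := orderOf_dvd_of_pow_eq_one hbt
    exact Nat.Coprime.coprime_dvd_left hdvd ((hp.1.coprime_iff_not_dvd).mpr ht).symm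

/-- the cyclic group generated by a `p`-element is a `p`-group. -/
theorem isPGroup_zpowers_h71 (p : ℕ) [hp : Fact p.Prime] (w : G) (k : ℕ) (h : w ^ p ^ k = 1) :
    IsPGroup p (Subgroup.zpowers w) := by
  obtain ⟨j, -, hj⟩ := (Nat.dvd_prime_pow hp.1).mp (orderOf_dvd_of_pow_eq_one h)
  exact IsPGroup.of_card (n := j) (by rw [Nat.card_zpowers, hj])

/-- in a nilpotent subgroup `M` containing the Sylow subgroup `P`, the `p`-elements lie in `P`. -/
theorem mem_sylow_of_mem_nilpotent_h71 [Finite G] (p : ℕ) [hp : Fact p.Prime] (P : Sylow p G) (M : Subgroup G)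
    (hMnil : Group.IsNilpotent M) (hPM : (P : Subgroup G) ≤ M) (w : G) (hw : w ∈ M) (k : ℕ)
    (hk : w ^ p ^ k = 1) : w ∈ (P : Subgroup G) := by
  haveI := hMnil
  let PM : Sylow p M := P.subtype hPM
  haveI : (PM : Subgroup M).Normal := inferInstance
  have hQ : IsPGroup p (Subgroup.zpowers (⟨w, hw⟩ : M)) :=
    isPGroup_zpowers_h71 p _ k (Subtype.ext (by simpa using hk))
  have hsup : IsPGroup p (Subgroup.zpowers (⟨w, hw⟩ : M) ⊔ (PM : Subgroup M) : Subgroup M) :=
    IsPGroup.to_sup_of_normal_right hQ PM.isPGroup'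
  have heq := PM.is_maximal' hsup le_sup_right
  have hmem : (⟨w, hw⟩ : M) ∈ (PM : Subgroup M) := by
    rw [← heq]
    exact Subgroup.mem_sup_left (Subgroup.mem_zpowers _)
  have h2 : (⟨w, hw⟩ : M) ∈ (P : Subgroup G).subgroupOf M := hmem
  exact Subgroup.mem_subgroupOf.mp h2

/-- [BLK-CC] For `z ≠ 1` central in a Sylow subgroup `P`, `C(z)` contains the centralizers of its
nonidentity elements.  (RENAMED `block_cc_h71`: helper55 landed the exact name `block_cc` first, in
`Lib/Helper55/CTI/BlkCC.lean`; use that one.) -/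
theorem block_cc_h71 [Finite G] (hG : IsCTI G) (p : ℕ) [Fact p.Prime] (P : Sylow p G) (z : G)
    (hzP : z ∈ (P : Subgroup G)) (hzc : ∀ y ∈ (P : Subgroup G), y * z = z * y) (hz1 : z ≠ 1) :
    ∀ m ∈ Subgroup.centralizer ({z} : Set G), m ≠ 1 →
      Subgroup.centralizer ({m} : Set G) ≤ Subgroup.centralizer ({z} : Set G) := by
  intro m hm hm1 g hg
  have hCN := isCNGroup_of_cti hG
  have hMnil : Group.IsNilpotent (Subgroup.centralizer ({z} : Set G)) := hCN z hz1
  have hHnil : Group.IsNilpotent (Subgroup.centralizer ({m} : Set G)) := hCN m hm1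
  have hPM : (P : Subgroup G) ≤ Subgroup.centralizer ({z} : Set G) := by
    intro y hy
    rw [Subgroup.mem_centralizer_singleton_iff]
    exact hzc y hy
  -- (i) `C(m) ≤ N(M)`
  have hHN : ∀ h ∈ Subgroup.centralizer ({m} : Set G),
      h ∈ Subgroup.normalizer ((Subgroup.centralizer ({z} : Set G) : Subgroup G) : Set G) := by
    intro h hh
    by_contra hcon
    apply hm1
    refine hG z h hcon m hm ?_
    rw [Subgroup.mem_centralizer_singleton_iff] at hh
    have : h * m * h⁻¹ = m := by rw [hh, mul_inv_cancel_right]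
    rw [this]
    exact hm
  -- `p`-elements of `M` lie in `P`
  have hpM : ∀ w ∈ Subgroup.centralizer ({z} : Set G), ∀ k : ℕ, w ^ p ^ k = 1 → w ∈ (P : Subgroup G) :=
    fun w hw k hk => mem_sylow_of_mem_nilpotent_h71 p P _ hMnil hPM w hw k hk
  -- `p`-elements of `N(M)` lie in `P`
  have hpN : ∀ a ∈ Subgroup.normalizer ((Subgroup.centralizer ({z} : Set G) : Subgroup G) : Set G),
      ∀ k : ℕ, a ^ p ^ k = 1 → a ∈ (P : Subgroup G) := by
    intro a ha k hk
    have haN : a ∈ Subgroup.normalizer ((P : Subgroup G) : Set G) := by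
      rw [Subgroup.mem_normalizer_iff]
      intro y
      have hay := Subgroup.mem_normalizer_iff.mp ha y
      constructor
      · intro hy
        obtain ⟨j, hj⟩ := P.isPGroup' ⟨y, hy⟩
        have hj' : y ^ p ^ j = 1 := by
          have := congrArg Subtype.val hj
          simpa using this
        refine hpM _ (hay.mp (hPM hy)) j ?_
        rw [conj_pow, hj', mul_one, mul_inv_cancel]
      · intro hy
        obtain ⟨j, hj⟩ := P.isPGroup' ⟨a * y * a⁻¹, hy⟩
        have hj' : (a * y * a⁻¹) ^ p ^ j = 1 := by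
          have := congrArg Subtype.val hj
          simpa using this
        refine hpM _ (hay.mpr (hPM hy)) j ?_
        rw [conj_pow] at hj'
        have : y ^ p ^ j = a⁻¹ * (a * y ^ p ^ j * a⁻¹) * a := by group
        rw [this, hj']
        group
    have hQ : IsPGroup p (Subgroup.zpowers a) := isPGroup_zpowers_h71 p a k hk
    have hle : Subgroup.zpowers a ≤ Subgroup.normalizer ((P : Subgroup G) : Set G) :=
      Subgroup.zpowers_le.mpr haN
    have hsup : IsPGroup p (Subgroup.zpowers a ⊔ (P : Subgroup G) : Subgroup G) :=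
      IsPGroup.to_sup_of_normal_right' hQ P.isPGroup' hle
    have heq := P.is_maximal' hsup le_sup_right
    rw [← heq]
    exact Subgroup.mem_sup_left (Subgroup.mem_zpowers a)
  obtain ⟨a, b, haz, hbz, hgab, ⟨k, hak⟩, hbp⟩ := exists_p_decomp_h71 p g
  have hzle : Subgroup.zpowers g ≤ Subgroup.centralizer ({m} : Set G) := Subgroup.zpowers_le.mpr hg
  have haH := hzle haz
  have hbH := hzle hbz
  have hzH : z ∈ Subgroup.centralizer ({m} : Set G) := by
    rw [Subgroup.mem_centralizer_singleton_iff] at hm ⊢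
    exact hm.symm
  -- `b` commutes with `z`
  have hbz' : b * z = z * b := by
    obtain ⟨j, hj⟩ := P.isPGroup' ⟨z, hzP⟩
    have hj' : z ^ p ^ j = 1 := by
      have := congrArg Subtype.val hj
      simpa using this
    have hcop : (orderOf b).Coprime (orderOf z) :=
      Nat.Coprime.coprime_dvd_right (orderOf_dvd_of_pow_eq_one hj') (Nat.Coprime.pow_right j hbp)
    haveI := hHnil
    have hc := Cfsg.Agent.Lib.Helper65.commute_of_coprime_orderOf
      (⟨b, hbH⟩ : Subgroup.centralizer ({m} : Set G)) ⟨z, hzH⟩ (by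
        rw [← Subgroup.orderOf_coe, ← Subgroup.orderOf_coe]
        exact hcop)
    exact congrArg Subtype.val hc.eq
  -- `a ∈ P` commutes with `z`
  have haP : a ∈ (P : Subgroup G) := hpN a (hHN a haH) k hak
  have haz' : a * z = z * a := hzc a haP
  rw [Subgroup.mem_centralizer_singleton_iff, hgab, mul_assoc, hbz', ← mul_assoc, haz', mul_assoc]

end Cfsg.Agent.Lib.Helper31.CTI
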